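import Mathlib

/-!
# Polynomials whose zero scheme is a subgroup of a vector group are p-polynomials
-/

set_option autoImplicit false
universe u v

namespace Groth.Agent.PPoly

open MvPolynomial

variable {σ : Type*} {k : Type u} [CommRing k]

theorem mono_coeff {B : Type v} [CommRing B] (y : σ → B) (u : σ →₀ ℕ) :
    ∀ m : σ →₀ ℕ, u.degree ≤ m.degree →
      coeff m (u.prod fun i e => (X i + C (y i)) ^ e : MvPolynomial σ B) = coeff m (monomial u 1) := by
  classical
  induction u using Finsupp.induction_linear with
  | zero => intro m _; simp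
  | add u w hu hw =>
    intro m hm
    rw [Finsupp.prod_add_index' (by simp) (fun _ _ _ => pow_add _ _ _),
      show monomial (u + w) (1 : B) = monomial u 1 * monomial w 1 by simp, coeff_mul, coeff_mul]
    refine Finset.sum_congr rfl fun x hx => ?_
    rw [Finset.HasAntidiagonal.mem_antidiagonal] at hx
    have hdeg : x.1.degree + x.2.degree = m.degree := by rw [← map_add, hx]
    rw [map_add] at hm
    by_cases h1 : u.degree ≤ x.1.degree
    · by_cases h2 : w.degree ≤ x.2.degree
      · rw [hu _ h1, hw _ h2]
      · rw [hu _ h1, coeff_monomial, if_neg (fun e => by rw [e] at hm; omega)]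
        simp
    · have h2 : w.degree < x.2.degree := by omega
      rw [hw _ h2.le, coeff_monomial (a := (1 : B)), if_neg (fun e => by rw [e] at h2; omega)]
      simp
  | single i e =>
    intro m hm
    rw [Finsupp.prod_single_index (by simp), add_pow, coeff_sum, Finset.sum_eq_single e]
    · simp [X_pow_eq_monomial]
    · intro j hj hje
      rw [Finset.mem_range] at hj
      rw [X_pow_eq_monomial, mul_assoc, ← map_pow, ← map_natCast (C : B →+* MvPolynomial σ B), ← map_mul,
        mul_comm, C_mul_monomial, coeff_monomial, if_neg]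
      intro h
      rw [← h] at hm
      simp at hm
      omega
    · simp

/-- `f` is additive in the two blocks of variables. -/
def IsAdd (f : MvPolynomial σ k) : Prop :=
  aeval (fun i => (X (Sum.inl i) + X (Sum.inr i) : MvPolynomial (σ ⊕ σ) k)) f =
    rename Sum.inl f + rename Sum.inr f

/-- translating does not change the terms of top degree -/
theorem coeff_translate {B : Type v} [CommRing B] [Algebra k B] (y : σ → B) (q : MvPolynomial σ k)
    (m : σ →₀ ℕ) (hm : q.totalDegree ≤ m.degree) :
    coeff m (aeval (fun i => X i + C (y i)) q : MvPolynomial σ B) = algebraMap k B (coeff m q) := by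
  classical
  conv_lhs => rw [q.as_sum]
  conv_rhs => rw [q.as_sum]
  rw [map_sum, coeff_sum, coeff_sum, map_sum]
  refine Finset.sum_congr rfl fun u hu => ?_
  have hu' : u.degree ≤ m.degree := by
    refine le_trans ?_ hm
    exact le_trans (le_of_eq (Finsupp.degree_apply _)) (le_totalDegree hu)
  rw [aeval_monomial, MvPolynomial.algebraMap_apply, coeff_C_mul, mono_coeff y u m hu', coeff_monomial,
    coeff_monomial]
  split_ifs <;> simp

section Field

variable {k : Type u} [Field k]

/-- coefficientwise functional -/
theorem exists_coeffwise {B : Type v} [CommRing B] [Algebra k B] (ψ : B →ₗ[k] k) (q : MvPolynomial σ B) :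
    ∃ r : MvPolynomial σ k, ∀ m, coeff m r = ψ (coeff m q) := by
  classical
  refine ⟨∑ m ∈ q.support, monomial m (ψ (coeff m q)), fun m => ?_⟩
  rw [coeff_sum]
  by_cases h : m ∈ q.support
  · rw [Finset.sum_eq_single m]
    · simp
    · intro b _ hb; simp [coeff_monomial, hb]
    · simp [h]
  · rw [Finset.sum_eq_zero]
    · simp [notMem_support_iff.1 h]
    · intro b hb; rw [coeff_monomial, if_neg]; rintro rfl; exact h hb

/-- The translate of a nonzero polynomial which is a multiple of it equals it. -/
theorem translate_eq_self {B : Type v} [CommRing B] [Algebra k B] (y : σ → B) {f : MvPolynomial σ k} (hf : f ≠ 0)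
    {a : MvPolynomial σ B} (h : (aeval (fun i => X i + C (y i)) f : MvPolynomial σ B) = a * map (algebraMap k B) f) :
    (aeval (fun i => X i + C (y i)) f : MvPolynomial σ B) = map (algebraMap k B) f := by
  classical
  obtain ⟨m₀, hm₀, hd₀'⟩ := Finset.exists_mem_eq_sup f.support
    (support_nonempty.2 hf) (fun s => s.sum fun _ e => e)
  have hd₀ : m₀.degree = f.totalDegree := by rw [Finsupp.degree_apply]; exact hd₀'.symm
  suffices ha : a = 1 by rw [h, ha, one_mul]
  refine MvPolynomial.ext _ _ fun w => ?_
  rw [← sub_eq_zero, ← Module.forall_dual_apply_eq_zero_iff k]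
  intro ψ
  obtain ⟨A, hA⟩ := exists_coeffwise ψ a
  have hcoeff : ∀ m, coeff m (A * f) = ψ (coeff m (aeval (fun i => X i + C (y i)) f : MvPolynomial σ B)) := by
    intro m
    rw [h, coeff_mul, coeff_mul, map_sum]
    refine Finset.sum_congr rfl fun x _ => ?_
    rw [coeff_map, hA, mul_comm (coeff x.1 a), ← Algebra.smul_def, map_smul, smul_eq_mul, mul_comm]
  have hdeg : A = C (ψ 1) := by
    have hle : (A * f).totalDegree ≤ f.totalDegree := by
      refine Finset.sup_le fun m hm => ?_
      by_contra hlt
      push Not at hlt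
      have hlt' : f.totalDegree < m.degree := by rw [Finsupp.degree_apply]; exact hlt
      rw [mem_support_iff, hcoeff, coeff_translate y f m hlt'.le,
        coeff_eq_zero_of_totalDegree_lt (f := f) (d := m) (by simpa [Finsupp.sum] using hlt)] at hm
      simp at hm
    by_cases hA0 : A = 0
    · have h2 := hcoeff m₀
      rw [hA0, zero_mul, coeff_zero, coeff_translate y f m₀ hd₀.ge, Algebra.algebraMap_eq_smul_one, map_smul,
        smul_eq_mul] at h2
      rcases mul_eq_zero.1 h2.symm with e | e
      · exact absurd e (mem_support_iff.1 hm₀)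
      · rw [hA0, e, map_zero]
    · rw [totalDegree_mul_of_isDomain hA0 hf] at hle
      rw [totalDegree_eq_zero_iff_eq_C.1 (show A.totalDegree = 0 by omega)]
      congr 1
      have h2 := hcoeff m₀
      rw [totalDegree_eq_zero_iff_eq_C.1 (show A.totalDegree = 0 by omega), coeff_C_mul,
        coeff_translate y f m₀ hd₀.ge, Algebra.algebraMap_eq_smul_one, map_smul, smul_eq_mul, mul_comm] at h2
      exact mul_left_cancel₀ (mem_support_iff.1 hm₀) h2
  have hw := hA w
  rw [hdeg, coeff_C] at hw
  rw [map_sub, ← hw, coeff_one]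
  split_ifs <;> simp

variable {p : ℕ}

theorem totalDegree_addX_le (f : MvPolynomial σ k) :
    (aeval (fun i => (X (Sum.inl i) + X (Sum.inr i) : MvPolynomial (σ ⊕ σ) k)) f).totalDegree ≤ f.totalDegree := by
  classical
  conv_lhs => rw [f.as_sum]
  rw [map_sum]
  refine totalDegree_finsetSum_le fun u hu => ?_
  rw [aeval_monomial, MvPolynomial.algebraMap_eq]
  refine (totalDegree_mul _ _).trans ?_
  rw [totalDegree_C, zero_add, Finsupp.prod]
  refine (totalDegree_finset_prod _ _).trans ?_
  refine le_trans (Finset.sum_le_sum (g := fun i => u i) fun i _ => ?_) (le_totalDegree hu)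
  refine (totalDegree_pow _ _).trans ?_
  refine le_trans (Nat.mul_le_mul_left _ ((totalDegree_add _ _).trans (max_le (totalDegree_X _).le (totalDegree_X _).le))) ?_
  simp

/-- Zero scheme a subgroup ⇒ additive. -/
theorem isAdd_of_mem_span {f : MvPolynomial σ k} (hf : f ≠ 0) (hf0 : constantCoeff f = 0)
    (hadd : aeval (fun i => (X (Sum.inl i) + X (Sum.inr i) : MvPolynomial (σ ⊕ σ) k)) f ∈
      Ideal.span {rename Sum.inl f, rename Sum.inr f}) : IsAdd f := by
  classical
  set P := aeval (fun i => (X (Sum.inl i) + X (Sum.inr i) : MvPolynomial (σ ⊕ σ) k)) f with hP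
  obtain ⟨a, c, hac⟩ := Ideal.mem_span_pair.1 hadd
  let B := MvPolynomial σ k ⧸ Ideal.span {f}
  let Φ : MvPolynomial (σ ⊕ σ) k →ₐ[k] MvPolynomial σ B :=
    aeval (Sum.elim X fun i => C (Ideal.Quotient.mk (Ideal.span {f}) (X i)))
  have hΦl : Φ (rename Sum.inl f) = map (algebraMap k B) f := by
    rw [show Φ (rename Sum.inl f) = (Φ.comp (rename Sum.inl)) f from rfl]
    have : Φ.comp (rename Sum.inl) = mapAlgHom (Algebra.ofId k B) := algHom_ext fun i => by simp [Φ]
    rw [this]
    rfl
  have hΦr : Φ (rename Sum.inr f) = 0 := by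
    have : Φ.comp (rename Sum.inr) =
        (IsScalarTower.toAlgHom k B (MvPolynomial σ B)).comp (Ideal.Quotient.mkₐ k (Ideal.span {f})) :=
      algHom_ext fun i => by simp [Φ]; rfl
    rw [show Φ (rename Sum.inr f) = (Φ.comp (rename Sum.inr)) f from rfl, this, AlgHom.comp_apply,
      show Ideal.Quotient.mkₐ k (Ideal.span {f}) f = 0 from
        Ideal.Quotient.eq_zero_iff_mem.2 (Ideal.mem_span_singleton_self f), map_zero]
  have hΦP : Φ P = aeval (fun i => X i + C (Ideal.Quotient.mk (Ideal.span {f}) (X i))) f := by
    rw [hP, show Φ (aeval (fun i => (X (Sum.inl i) + X (Sum.inr i) : MvPolynomial (σ ⊕ σ) k)) f) =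
      (Φ.comp (aeval (fun i => (X (Sum.inl i) + X (Sum.inr i) : MvPolynomial (σ ⊕ σ) k)))) f from rfl, comp_aeval]
    congr 2
    funext i
    simp [Φ]
  have hker : Φ (P - rename Sum.inl f) = 0 := by
    rw [map_sub, hΦP, hΦl, sub_eq_zero]
    refine translate_eq_self (B := B) (fun i => Ideal.Quotient.mk (Ideal.span {f}) (X i)) hf (a := Φ a) ?_
    rw [← hΦP, ← hac, map_add, map_mul, map_mul, hΦr, mul_zero, add_zero, hΦl]
  have hdvd : ∀ z, Φ z = 0 → rename Sum.inr f ∣ z := by
    intro z hz
    have hfac : Φ = (mapAlgHom (Ideal.Quotient.mkₐ k (Ideal.span {f}))).comp (sumAlgEquiv k σ σ).toAlgHom :=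
      algHom_ext fun i => by cases i <;> simp [Φ, sumAlgEquiv_X_inl, sumAlgEquiv_X_inr]
    rw [hfac] at hz
    have h1 : (C f : MvPolynomial σ (MvPolynomial σ k)) ∣ sumAlgEquiv k σ σ z := by
      rw [C_dvd_iff_dvd_coeff]
      intro m
      have := congrArg (coeff m) hz
      simp only [AlgHom.comp_apply, mapAlgHom_apply, coeff_map, coeff_zero] at this
      exact Ideal.mem_span_singleton.1 (Ideal.Quotient.eq_zero_iff_mem.1 this)
    have h2 := map_dvd (sumAlgEquiv k σ σ).symm h1
    rw [AlgEquiv.symm_apply_apply] at h2
    have h3 : (sumAlgEquiv k σ σ).symm (C f) = rename Sum.inr f := by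
      rw [AlgEquiv.symm_apply_eq]
      exact (DFunLike.congr_fun (sumAlgEquiv_comp_rename_inr k σ σ) f).symm
    rwa [h3] at h2
  have hgdvd : rename Sum.inr f ∣ P - rename Sum.inl f - rename Sum.inr f :=
    dvd_sub (hdvd _ hker) dvd_rfl
  obtain ⟨q, hq⟩ := hgdvd
  have hfr : rename (Sum.inr : σ → σ ⊕ σ) f ≠ 0 := fun e => hf (rename_injective _ Sum.inr_injective (e.trans (map_zero _).symm))
  have hinv : ∀ e : σ → σ ⊕ σ, (∀ i, Sum.elim id id (e i) = i) → (rename e f).totalDegree = f.totalDegree := fun e he => by
    refine le_antisymm (totalDegree_rename_le _ _) ?_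
    have := totalDegree_rename_le (Sum.elim id id) (rename e f)
    rwa [rename_rename, show Sum.elim id id ∘ e = id from funext he, rename_id_apply] at this
  have hdl : (rename (Sum.inl : σ → σ ⊕ σ) f).totalDegree = f.totalDegree := hinv _ fun _ => rfl
  have hdr : (rename (Sum.inr : σ → σ ⊕ σ) f).totalDegree = f.totalDegree := hinv _ fun _ => rfl
  have hsymm : rename Sum.swap (P - rename Sum.inl f - rename Sum.inr f) = P - rename Sum.inl f - rename Sum.inr f := by
    have hPs : rename Sum.swap P = P := by
      rw [hP, show rename Sum.swap (aeval (fun i => (X (Sum.inl i) + X (Sum.inr i) : MvPolynomial (σ ⊕ σ) k)) f) =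
        ((rename Sum.swap).comp (aeval (fun i => (X (Sum.inl i) + X (Sum.inr i) : MvPolynomial (σ ⊕ σ) k)))) f from rfl,
        comp_aeval]
      congr 2
      funext i
      simp [add_comm]
    rw [map_sub, map_sub, hPs, rename_rename, rename_rename,
      show (Sum.swap ∘ Sum.inl : σ → σ ⊕ σ) = Sum.inr from rfl, show (Sum.swap ∘ Sum.inr : σ → σ ⊕ σ) = Sum.inl from rfl]
    abel
  show P = rename Sum.inl f + rename Sum.inr f
  rw [← sub_eq_zero, ← sub_sub]
  by_contra hne
  have hq0 : q ≠ 0 := by rintro rfl; rw [mul_zero] at hq; exact hne hq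
  have hdeg : q.totalDegree = 0 := by
    have h1 : (P - rename Sum.inl f - rename Sum.inr f).totalDegree ≤ f.totalDegree := by
      refine (totalDegree_sub _ _).trans (max_le ((totalDegree_sub _ _).trans (max_le ?_ hdl.le)) hdr.le)
      exact totalDegree_addX_le f
    rw [hq, totalDegree_mul_of_isDomain hfr hq0, hdr] at h1
    omega
  obtain ⟨c₀, hc₀⟩ : ∃ c₀, q = C c₀ := ⟨_, totalDegree_eq_zero_iff_eq_C.1 hdeg⟩
  subst hc₀
  rw [hq, map_mul, rename_C, rename_rename, show (Sum.swap ∘ Sum.inr : σ → σ ⊕ σ) = Sum.inl from rfl] at hsymm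
  have h2 := congrArg (aeval (Sum.elim X fun _ => 0 : σ ⊕ σ → MvPolynomial σ k)) hsymm
  rw [map_mul, map_mul, aeval_rename, aeval_rename, Sum.elim_comp_inl, Sum.elim_comp_inr, aeval_X_left_apply,
    aeval_C] at h2
  rw [show aeval (fun _ => (0 : MvPolynomial σ k)) f = 0 by
    rw [show (fun _ : σ => (0 : MvPolynomial σ k)) = 0 from rfl, aeval_zero, hf0, map_zero], zero_mul] at h2
  rcases mul_eq_zero.1 h2 with e | e
  · exact hf e
  · exact hq0 (by rw [show c₀ = 0 by simpa using e, map_zero])

theorem coeff_X_add_one_pow_pow [hp : Fact p.Prime] [CharP k p] (j v : ℕ) :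
    (((p ^ j * v).choose (p ^ j) : ℕ) : k) = v := by
  have h1 := Polynomial.coeff_X_add_one_pow k (p ^ j * v) (p ^ j)
  rw [← h1, pow_mul, add_pow_char_pow, one_pow]
  have h2 : ((Polynomial.X : Polynomial k) ^ p ^ j + 1) ^ v = Polynomial.expand k (p ^ j) ((Polynomial.X + 1) ^ v) := by
    simp
  rw [h2]
  have h3 := Polynomial.coeff_expand_mul (pow_pos hp.out.pos j) ((Polynomial.X + 1 : Polynomial k) ^ v) 1
  rw [one_mul] at h3
  rw [h3, Polynomial.coeff_X_add_one_pow, Nat.choose_one_right]

theorem single_of_isAdd [DecidableEq σ] [hp : Fact p.Prime] [CharP k p] {f : MvPolynomial σ k} (h : IsAdd f)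
    (hf0 : constantCoeff f = 0) : ∀ m ∈ f.support, ∃ (i : σ) (j : ℕ), m = Finsupp.single i (p ^ j) := by
  intro m hm
  rw [mem_support_iff] at hm
  obtain ⟨i, hi⟩ : ∃ i, m i ≠ 0 := by
    by_contra hc
    push Not at hc
    exact hm (by rw [show m = 0 from Finsupp.ext hc, ← constantCoeff_eq]; exact hf0)
  let Pr : (σ → Bool) → MvPolynomial σ k →ₐ[k] MvPolynomial σ k := fun s => aeval fun l => if s l then X l else 0
  have hPr : ∀ s (q : MvPolynomial σ k) (u : σ →₀ ℕ),
      coeff u (Pr s q) = if ∀ l ∈ u.support, s l then coeff u q else 0 := by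
    intro s q u
    induction q using MvPolynomial.induction_on' with
    | monomial w r =>
      simp only [Pr, aeval_monomial, MvPolynomial.algebraMap_eq]
      by_cases hw : ∀ l ∈ w.support, s l
      · rw [show (w.prod fun l e => ((if s l then X l else 0 : MvPolynomial σ k)) ^ e) = monomial w 1 by
          rw [monomial_eq, C_1, one_mul]
          exact Finsupp.prod_congr fun l hl => by rw [if_pos (hw l hl)]]
        rw [C_mul_monomial, mul_one]
        by_cases e : w = u
        · subst e; rw [if_pos hw]
        · simp [coeff_monomial, e]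
      · push Not at hw
        obtain ⟨l, hl, hsl⟩ := hw
        rw [Finsupp.prod, Finset.prod_eq_zero hl (by rw [if_neg hsl, zero_pow (Finsupp.mem_support_iff.1 hl)]),
          mul_zero, coeff_zero, coeff_monomial]
        split_ifs with h1 h2 <;> first | rfl | (subst h2; exact absurd (h1 l hl) hsl)
    | add a b ha hb => rw [map_add, coeff_add, ha, hb, coeff_add]; split_ifs <;> simp
  have hsplit : f = Pr (fun l => decide (l ≠ i)) f + Pr (fun l => decide (l = i)) f := by
    have h2 := congrArg (aeval (Sum.elim (fun l => if decide (l ≠ i) = true then X l else 0)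
      (fun l => if decide (l = i) = true then X l else 0) : σ ⊕ σ → MvPolynomial σ k)) h
    rw [map_add, aeval_rename, aeval_rename, Sum.elim_comp_inl, Sum.elim_comp_inr,
      ← AlgHom.comp_apply, comp_aeval] at h2
    refine Eq.trans ?_ h2
    conv_lhs => rw [← aeval_X_left_apply f]
    congr 2
    funext l
    by_cases hl : l = i <;> simp [hl]
  have hsupp : ∀ l, m l ≠ 0 → l = i := by
    intro l hl
    by_contra hne
    have := congrArg (coeff m) hsplit
    rw [coeff_add, hPr, hPr, if_neg, if_neg, add_zero] at this
    · exact hm this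
    · intro hc; exact hne (by simpa using hc l (Finsupp.mem_support_iff.2 hl))
    · intro hc; simpa using hc i (Finsupp.mem_support_iff.2 hi)
  have hms : m = Finsupp.single i (m i) := Finsupp.ext fun l => by
    by_cases hl : l = i
    · subst hl; simp
    · rw [Finsupp.single_eq_of_ne hl]; by_contra hc; exact hl (hsupp l hc)
  set e := m i with he
  -- the univariate polynomial
  let g : Polynomial k := aeval (fun l => if l = i then (Polynomial.X : Polynomial k) else 0) f
  have hg : g.coeff e = coeff m f := by
    show (aeval (fun l => if l = i then (Polynomial.X : Polynomial k) else 0) f).coeff e = _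
    clear_value g
    clear hm h hf0 hsplit
    induction f using MvPolynomial.induction_on' with
    | monomial w r =>
      rw [aeval_monomial, coeff_monomial]
      by_cases hw : ∀ l ∈ w.support, l = i
      · have hwe : w = Finsupp.single i (w i) := Finsupp.ext fun l => by
          by_cases hl : l = i
          · subst hl; simp
          · rw [Finsupp.single_eq_of_ne hl]; by_contra hc; exact hl (hw l (Finsupp.mem_support_iff.2 hc))
        rw [hwe, Finsupp.prod_single_index (by simp), if_pos rfl, ← Polynomial.C_eq_algebraMap,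
          Polynomial.coeff_C_mul_X_pow]
        by_cases hwi : w i = e
        · rw [if_pos hwi.symm, if_pos]; rw [hms, hwi]
        · rw [if_neg (Ne.symm hwi), if_neg]
          rw [hms]; exact fun hh => hwi (by simpa using congrArg (fun z : σ →₀ ℕ => z i) hh)
      · push Not at hw
        obtain ⟨l, hl, hli⟩ := hw
        rw [Finsupp.prod, Finset.prod_eq_zero hl (by rw [if_neg hli, zero_pow (Finsupp.mem_support_iff.1 hl)]),
          mul_zero, Polynomial.coeff_zero, if_neg]
        rintro rfl
        exact hli (hsupp l (Finsupp.mem_support_iff.1 hl))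
    | add a b ha hb => rw [map_add, Polynomial.coeff_add, ha, hb, coeff_add]
  have htay : Polynomial.taylor (Polynomial.X : Polynomial k) (g.map Polynomial.C) = g.map Polynomial.C + Polynomial.C g := by
    let G : MvPolynomial (σ ⊕ σ) k →ₐ[k] Polynomial (Polynomial k) :=
      aeval (Sum.elim (fun l => if l = i then Polynomial.X else 0) fun l => if l = i then Polynomial.C Polynomial.X else 0)
    have h2 := congrArg G h
    rw [map_add, aeval_rename, aeval_rename, Sum.elim_comp_inl, Sum.elim_comp_inr,
      ← AlgHom.comp_apply, comp_aeval] at h2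
    have e1 : ∀ q : MvPolynomial σ k, aeval (fun l => if l = i then (Polynomial.X : Polynomial (Polynomial k)) else 0) q =
        (aeval (fun l => if l = i then (Polynomial.X : Polynomial k) else 0) q).map Polynomial.C := by
      intro q
      induction q using MvPolynomial.induction_on with
      | C r =>
        simp only [aeval_C, IsScalarTower.algebraMap_apply k (Polynomial k) (Polynomial (Polynomial k)),
          Polynomial.algebraMap_eq, Polynomial.map_C, Polynomial.C_comp]
      | add a b ha hb => simp only [map_add, Polynomial.map_add, ha, hb]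
      | mul_X a l ha => simp only [map_mul, Polynomial.map_mul, ha, aeval_X]; split_ifs <;> simp
    have e2 : ∀ q : MvPolynomial σ k, aeval (fun l => if l = i then (Polynomial.C Polynomial.X : Polynomial (Polynomial k)) else 0) q =
        Polynomial.C (aeval (fun l => if l = i then (Polynomial.X : Polynomial k) else 0) q) := by
      intro q
      induction q using MvPolynomial.induction_on with
      | C r =>
        simp only [aeval_C, IsScalarTower.algebraMap_apply k (Polynomial k) (Polynomial (Polynomial k)),
          Polynomial.algebraMap_eq, Polynomial.map_C, Polynomial.C_comp]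
      | add a b ha hb => simp only [map_add, ha, hb]
      | mul_X a l ha => simp only [map_mul, ha, aeval_X]; split_ifs <;> simp
    rw [e1, e2] at h2
    refine Eq.trans ?_ h2
    rw [Polynomial.taylor_apply]
    show _ = _
    have e3 : ∀ q : MvPolynomial σ k,
        ((aeval (fun l => if l = i then (Polynomial.X : Polynomial k) else 0) q).map Polynomial.C).comp
          (Polynomial.X + Polynomial.C Polynomial.X) =
        aeval (fun l => (if l = i then Polynomial.X + Polynomial.C Polynomial.X else 0 : Polynomial (Polynomial k))) q := by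
      intro q
      induction q using MvPolynomial.induction_on with
      | C r =>
        simp only [aeval_C, IsScalarTower.algebraMap_apply k (Polynomial k) (Polynomial (Polynomial k)),
          Polynomial.algebraMap_eq, Polynomial.map_C, Polynomial.C_comp]
      | add a b ha hb => simp only [map_add, Polynomial.map_add, Polynomial.add_comp, ha, hb]
      | mul_X a l ha => simp only [map_mul, Polynomial.map_mul, Polynomial.mul_comp, ha, aeval_X]; split_ifs <;> simp
    rw [e3]
    congr 2
    funext l
    by_cases hl : l = i <;> simp [G, hl]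
  refine ⟨i, ?_⟩
  obtain ⟨j, v, hv, hev⟩ := Nat.exists_eq_pow_mul_and_not_dvd (show e ≠ 0 from hi) p hp.out.ne_one
  refine ⟨j, ?_⟩
  suffices v = 1 by rw [hms, hev, this, mul_one]
  by_contra hv1
  have hv0 : v ≠ 0 := by rintro rfl; exact hv (dvd_zero p)
  have hlt : p ^ j < e := by
    rw [hev]
    exact lt_mul_of_one_lt_right (pow_pos hp.out.pos j) (by omega)
  have h3 := congrArg (fun z : Polynomial (Polynomial k) => (z.coeff (p ^ j)).coeff (e - p ^ j)) htay
  simp only [Polynomial.coeff_add, Polynomial.coeff_map, Polynomial.coeff_C,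
    if_neg (pow_ne_zero j hp.out.ne_zero), Polynomial.coeff_zero, add_zero,
    if_neg (Nat.sub_ne_zero_of_lt hlt)] at h3
  rw [Polynomial.taylor_coeff] at h3
  have h4 : (Polynomial.hasseDeriv (p ^ j) (g.map Polynomial.C)).eval Polynomial.X = Polynomial.hasseDeriv (p ^ j) g := by
    rw [show Polynomial.hasseDeriv (p ^ j) (g.map Polynomial.C) = (Polynomial.hasseDeriv (p ^ j) g).map Polynomial.C by
      ext l; simp [Polynomial.hasseDeriv_coeff], Polynomial.eval_map]
    exact Polynomial.eval₂_C_X
  rw [h4, Polynomial.hasseDeriv_coeff, Nat.sub_add_cancel hlt.le] at h3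
  rw [hg, hev, coeff_X_add_one_pow_pow] at h3
  rcases mul_eq_zero.1 h3 with e0 | e0
  · rw [CharP.cast_eq_zero_iff k p] at e0; exact hv e0
  · exact hm e0

end Field

end Groth.Agent.PPoly
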